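import Cfsg.Agent.UAlt.Frame
import Cfsg.Agent.StdG24.AutA5
import Cfsg.Agent.StandardComponent.AltAut
set_option linter.all false

/-!
# Labellings of 2-components of type `A₅` by the points of `Fin 5`

* `exists_autHom`: every automorphism of `Alt(5)` is conjugation by a permutation;
* `nonempty_mod`: a labelling `Mod K univ` of a group `K` with `K / O(K) ≅ Alt(5)`.
-/

set_option autoImplicit false
set_option linter.unusedSectionVars false

namespace Cfsg.Agent.UGT.A7.Dg

open Cfsg Equiv Equiv.Perm Subgroup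
open Cfsg.Agent.Intrinsic.Basic Cfsg.Agent.Intrinsic
open Cfsg.Agent.SignalizersComponents Cfsg.Agent.Lib
open Cfsg.Agent.SignalizersComponents.IntrinsicBasic
open Cfsg.Agent.UAlt
open scoped commutatorElement

abbrev P5 := Perm (Fin 5)

/-- every automorphism of `Alt(5)` is induced by a permutation -/
theorem exists_conj (f : MulAut (alternatingGroup (Fin 5))) : ∃ σ : P5,
    ∀ x : alternatingGroup (Fin 5), ((f x : alternatingGroup (Fin 5)) : P5) = σ * x * σ⁻¹ := by
  obtain ⟨hu1, hu5, hi1, hi2, hui, hsi, hsu, -, -, -⟩ := StdG24.AutA5.gcd_facts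
  let u : alternatingGroup (Fin 5) := ⟨StdG24.AutA5.u0, mem_alternatingGroup.mpr hsu⟩
  let i : alternatingGroup (Fin 5) := ⟨StdG24.AutA5.i0, mem_alternatingGroup.mpr hsi⟩
  have hu1' : u ≠ 1 := fun h => hu1 (congrArg Subtype.val h)
  have hu5' : u ^ 5 = 1 := Subtype.ext hu5
  have hi1' : i ≠ 1 := fun h => hi1 (congrArg Subtype.val h)
  have hi2' : i * i = 1 := Subtype.ext hi2
  have hui' : i * u * i = u⁻¹ := Subtype.ext hui
  obtain ⟨s, hs⟩ := StdG24.AutA5.norm5 (f u : P5)
    (by
      have h := congrArg Subtype.val (congrArg f hu5')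
      rw [map_pow, map_one] at h
      exact h)
    (fun h => hu1' (f.injective (by rw [map_one]; exact Subtype.ext h)))
  obtain ⟨m, -, hm⟩ := StdG24.AutA5.norm2 (s * (f i : P5) * s⁻¹)
    (fun h => hi1' (f.injective (by
      rw [map_one]
      apply Subtype.ext
      rw [mul_inv_eq_iff_eq_mul, one_mul] at h
      exact mul_left_cancel (h.trans (mul_one s).symm))))
    (by
      have h := congrArg Subtype.val (congrArg f hi2')
      rw [map_mul, map_one] at h
      have h' : (f i : P5) * (f i : P5) = 1 := h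
      calc s * (f i : P5) * s⁻¹ * (s * (f i : P5) * s⁻¹) = s * ((f i : P5) * (f i : P5)) * s⁻¹ := by group
        _ = 1 := by rw [h']; group)
    (by
      have h := congrArg Subtype.val (congrArg f hui')
      rw [map_mul, map_mul, map_inv] at h
      have h' : (f i : P5) * (f u : P5) * (f i : P5) = (f u : P5)⁻¹ := h
      rw [← hs]
      calc s * (f i : P5) * s⁻¹ * (s * (f u : P5) * s⁻¹) * (s * (f i : P5) * s⁻¹)
          = s * ((f i : P5) * (f u : P5) * (f i : P5)) * s⁻¹ := by group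
        _ = _ := by rw [h']; group)
  obtain ⟨r, hr⟩ : ∃ r, r = StdG24.AutA5.u0 ^ m * s := ⟨_, rfl⟩
  let β : MulAut (alternatingGroup (Fin 5)) := MulAut.conjNormal r * f
  have hβ : ∀ x : alternatingGroup (Fin 5), ((β x : alternatingGroup (Fin 5)) : P5) = r * (f x : P5) * r⁻¹ := by
    intro x
    exact MulAut.conjNormal_apply _ _
  have hβu : β u = u := by
    apply Subtype.ext
    rw [hβ, hr]
    calc StdG24.AutA5.u0 ^ m * s * (f u : P5) * (StdG24.AutA5.u0 ^ m * s)⁻¹
        = StdG24.AutA5.u0 ^ m * (s * (f u : P5) * s⁻¹) * (StdG24.AutA5.u0 ^ m)⁻¹ := by group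
      _ = StdG24.AutA5.u0 := by rw [hs]; group
  have hβi : β i = i := by
    apply Subtype.ext
    rw [hβ, hr]
    calc StdG24.AutA5.u0 ^ m * s * (f i : P5) * (StdG24.AutA5.u0 ^ m * s)⁻¹
        = StdG24.AutA5.u0 ^ m * (s * (f i : P5) * s⁻¹) * (StdG24.AutA5.u0 ^ m)⁻¹ := by group
      _ = StdG24.AutA5.i0 := hm
  have hall := StdG24.AutA5.eq_one_of_fix (MulEquiv.refl _) β hu1' hu5' hi1' hi2' hui' hβu hβi
  refine ⟨r⁻¹, fun x => ?_⟩
  have h1 := congrArg Subtype.val (hall x)
  rw [hβ] at h1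
  rw [← h1]
  group

theorem exists_autHom5 : ∃ ψ : MulAut (alternatingGroup (Fin 5)) →* P5,
    ∀ (e : MulAut (alternatingGroup (Fin 5))) (x : alternatingGroup (Fin 5)),
      ((e x : alternatingGroup (Fin 5)) : P5) = ψ e * x * (ψ e)⁻¹ := by
  choose f hf using fun e => exists_conj e
  refine ⟨MonoidHom.mk' f fun a b => ?_, hf⟩
  apply StandardComponent.AltAut.conj_unique (m := 3) (by omega)
  intro x
  rw [← hf (a * b) x, MulAut.mul_apply, hf a, hf b]
  group

theorem exists_autHom (Ω : Type*) [Fintype Ω] [DecidableEq Ω] (h5 : Fintype.card Ω = 5) :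
    ∃ ψ : MulAut (alternatingGroup Ω) →* Perm Ω, ∀ (f : MulAut (alternatingGroup Ω))
      (x : alternatingGroup Ω), ((f x : alternatingGroup Ω) : Perm Ω) = ψ f * x * (ψ f)⁻¹ := by
  obtain ⟨ψ, hψ⟩ := exists_autHom5
  let ε : Ω ≃ Fin 5 := Fintype.equivFinOfCardEq h5
  let A : alternatingGroup Ω ≃* alternatingGroup (Fin 5) := Equiv.altCongrHom ε
  have hA : ∀ x : alternatingGroup Ω, (A x : P5) = ε.permCongrHom x := fun x => rfl
  let C : MulAut (alternatingGroup Ω) →* MulAut (alternatingGroup (Fin 5)) :=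
    { toFun := fun f => (A.symm.trans f).trans A
      map_one' := by ext x : 1; simp
      map_mul' := fun f g => by
        ext x : 1
        simp [MulEquiv.trans_apply] }
  refine ⟨(ε.permCongrHom.symm.toMonoidHom.comp ψ).comp C, fun f x => ?_⟩
  have h1 := hψ (C f) (A x)
  have h2 : C f (A x) = A (f x) := by
    show A (f (A.symm (A x))) = A (f x)
    rw [MulEquiv.symm_apply_apply]
  rw [h2, hA, hA] at h1
  apply ε.permCongrHom.injective
  rw [h1, map_mul, map_mul, map_inv]
  have h3 : ε.permCongrHom (((ε.permCongrHom.symm.toMonoidHom.comp ψ).comp C) f) = ψ (C f) :=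
    ε.permCongrHom.apply_symm_apply (ψ (C f))
  rw [h3]

variable {G : Type*} [Group G] {α : Type*} [Fintype α] [DecidableEq α]

/-- every automorphism of `alt S`, `|S| = 5`, is conjugation by a permutation of `S`, homomorphically -/
theorem exists_altAut {S : Finset α} (h5 : S.card = 5) :
    ∃ ψ : MulAut (alt S) →* Perm α, (∀ f, ψ f ∈ sym S) ∧ ∀ (f : MulAut (alt S)) (x : alt S),
      ((f x : alt S) : Perm α) = ψ f * x * (ψ f)⁻¹ := by
  obtain ⟨ψ, hψ⟩ := exists_autHom S (by rw [Fintype.card_coe]; exact h5)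
  let c : MulAut (alt S) ≃* MulAut (alternatingGroup S) := MulAut.congr (altEquiv S).symm
  refine ⟨((ofSubtype (p := fun x => x ∈ S)).comp ψ).comp c.toMonoidHom, fun f x hx =>
    ofSubtype_apply_of_not_mem _ hx, fun f x => ?_⟩
  obtain ⟨y, rfl⟩ := (altEquiv S).surjective x
  have h1 : c f y = (altEquiv S).symm (f (altEquiv S y)) := rfl
  have h2 : f (altEquiv S y) = altEquiv S (c f y) := by
    rw [h1, MulEquiv.apply_symm_apply]
  rw [h2, altEquiv_coe, altEquiv_coe, hψ, map_mul, map_mul, map_inv]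
  rfl

/-- **Existence of a labelling** extending a given homomorphism of `K` onto `alt S` with kernel `O(K)`, if the
automorphisms of `alt S` are induced by permutations. -/
theorem exists_of_hom [Finite G] {K : Subgroup G} {S : Finset α} (h5 : 5 ≤ S.card)
    (hψ : ∃ ψ : MulAut (alt S) →* Perm α, (∀ f, ψ f ∈ sym S) ∧ ∀ (f : MulAut (alt S)) (x : alt S),
      ((f x : alt S) : Perm α) = ψ f * x * (ψ f)⁻¹)
    (ε : ↥K →* Perm α) (hr : ε.range = alt S) (hk : ε.ker = oddCore ↥K) :
    ∃ M : Mod K S, ∀ x : ↥K, M.φ x = ε x := by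
  classical
  obtain ⟨ψ, hψS, hψ⟩ := hψ
  let ε' : ↥K →* ↥(alt S) := ε.codRestrict (alt S) fun x => by rw [← hr]; exact ⟨x, rfl⟩
  have hε' : Function.Surjective ε' := by
    rintro ⟨σ, hσ⟩
    rw [← hr] at hσ
    obtain ⟨x, rfl⟩ := hσ
    exact ⟨x, rfl⟩
  have hker : ε'.ker = oddCore ↥K := by
    rw [← hk]
    ext x
    rw [MonoidHom.mem_ker, MonoidHom.mem_ker, Subtype.ext_iff]
    rfl
  let e : (↥K ⧸ oddCore ↥K) ≃* ↥(alt S) :=
    (QuotientGroup.quotientMulEquivOfEq hker.symm).trans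
      (QuotientGroup.quotientKerEquivOfSurjective _ hε')
  have he : ∀ x : ↥K, e (QuotientGroup.mk' _ x) = ε' x := fun x => rfl
  let Φ : ↥(normalizer (K : Set G)) →* Perm α :=
    ψ.comp (((MulAut.congr e).toMonoidHom.comp (quotAut K)).comp K.normalizerMonoidHom)
  have hΦS : ∀ x, Φ x ∈ sym S := fun x => hψS _
  have hΦ : ∀ (x : ↥(normalizer (K : Set G))) (y : ↥K),
      ε ⟨(x : G) * y * (x : G)⁻¹, (mem_normalizer_iff.mp x.2 y).mp y.2⟩ =
        Φ x * ε y * (Φ x)⁻¹ := by
    intro x y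
    have h1 := hψ (MulAut.congr e (quotAut K (K.normalizerMonoidHom x))) (ε' y)
    have h2 : MulAut.congr e (quotAut K (K.normalizerMonoidHom x)) (ε' y) =
        ε' ⟨(x : G) * y * (x : G)⁻¹, (mem_normalizer_iff.mp x.2 y).mp y.2⟩ := by
      rw [← he, ← he]
      show e (quotAut K (K.normalizerMonoidHom x) (e.symm (e _))) = _
      rw [MulEquiv.symm_apply_apply]
      rfl
    rw [h2] at h1
    exact h1
  have hΦK : ∀ x : ↥K, Φ ⟨x, le_normalizer x.2⟩ = ε x := by
    intro x
    have h1 : ∀ σ ∈ alt S, ((ε x)⁻¹ * Φ ⟨x, le_normalizer x.2⟩) * σ =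
        σ * ((ε x)⁻¹ * Φ ⟨x, le_normalizer x.2⟩) := by
      intro σ hσ
      rw [← hr] at hσ
      obtain ⟨y, rfl⟩ := hσ
      have h2 := hΦ ⟨x, le_normalizer x.2⟩ y
      change ε (x * y * x⁻¹) = _ at h2
      rw [map_mul, map_mul, map_inv] at h2
      have h4 := congrArg (fun z => (ε x)⁻¹ * z * Φ ⟨x, le_normalizer x.2⟩) h2
      calc (ε x)⁻¹ * Φ ⟨x, le_normalizer x.2⟩ * ε y
          = (ε x)⁻¹ * (Φ ⟨x, le_normalizer x.2⟩ * ε y * (Φ ⟨x, le_normalizer x.2⟩)⁻¹) *
            Φ ⟨x, le_normalizer x.2⟩ := by group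
        _ = (ε x)⁻¹ * (ε x * ε y * (ε x)⁻¹) * Φ ⟨x, le_normalizer x.2⟩ := h4.symm
        _ = ε y * ((ε x)⁻¹ * Φ ⟨x, le_normalizer x.2⟩) := by group
    have h2 : (ε x)⁻¹ * Φ ⟨x, le_normalizer x.2⟩ = 1 := by
      ext a
      by_cases ha : a ∈ S
      · exact apply_of_comm_alt (S := S) (by omega) h1 ha
      · have h5 : ε x ∈ alt S := by rw [← hr]; exact ⟨x, rfl⟩
        exact mul_mem (inv_mem (alt_le_sym S h5)) (hΦS _) a ha
    exact (inv_mul_eq_one.mp h2).symm
  let M : Mod K S :=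
    { φ := fun x => if h : x ∈ normalizer (K : Set G) then Φ ⟨x, h⟩ else 1
      mul := by
        intro x y hx hy
        rw [dif_pos (mul_mem hx hy), dif_pos hx, dif_pos hy, ← map_mul]
        rfl
      mem_sym := by
        intro x hx
        rw [dif_pos hx]
        exact hΦS _
      mem_alt := by
        intro x hx
        rw [dif_pos (le_normalizer hx), hΦK ⟨x, hx⟩, ← hr]
        exact ⟨_, rfl⟩
      lift := by
        intro σ hσ
        rw [← hr] at hσ
        obtain ⟨x, rfl⟩ := hσ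
        exact ⟨x, x.2, by rw [dif_pos (le_normalizer x.2), hΦK x]⟩
      core_iff := by
        intro x hx
        rw [dif_pos (le_normalizer hx), hΦK ⟨x, hx⟩, mem_core_iff hx, ← hk, MonoidHom.mem_ker]
      five := by omega }
  refine ⟨M, fun x => ?_⟩
  show (if h : (x : G) ∈ normalizer (K : Set G) then Φ ⟨x, h⟩ else 1) = _
  rw [dif_pos (le_normalizer x.2), hΦK x]

/-- a labelling of `K`, `K / O(K) ≅ Alt(5)`, by a set with five elements -/
theorem nonempty_mod_of_card [Finite G] {K : Subgroup G} {S : Finset α} (hS : S.card = 5) (h : AltType K 5) :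
    Nonempty (Mod K S) := by
  obtain ⟨e⟩ := h
  have e1 : (Fin 5) ≃ S := Fintype.equivOfCardEq (by rw [Fintype.card_coe, hS, Fintype.card_fin])
  let e2 : alternatingGroup (Fin 5) ≃* alternatingGroup S := Equiv.altCongrHom e1
  let e3 : (↥K ⧸ oddCore ↥K) ≃* ↥(alt S) := (e.trans e2).trans (altEquiv _)
  obtain ⟨M, -⟩ := exists_of_hom (K := K) (S := S) (by omega) (exists_altAut hS)
    (((alt S).subtype.comp e3.toMonoidHom).comp (QuotientGroup.mk' (oddCore ↥K))) (by
      rw [MonoidHom.range_comp, MonoidHom.range_eq_top.mpr (QuotientGroup.mk'_surjective _),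
        ← MonoidHom.range_eq_map, MonoidHom.range_comp,
        MonoidHom.range_eq_top.mpr e3.surjective, ← MonoidHom.range_eq_map, Subgroup.range_subtype])
    (by
      ext x
      rw [MonoidHom.mem_ker, MonoidHom.comp_apply, MonoidHom.comp_apply, Subgroup.coe_subtype]
      constructor
      · intro h
        have h1 : e3 (QuotientGroup.mk' (oddCore ↥K) x) = 1 := Subtype.ext h
        have h2 := (MulEquiv.map_eq_one_iff e3).mp h1
        exact (QuotientGroup.eq_one_iff x).mp h2
      · intro h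
        have h2 : QuotientGroup.mk' (oddCore ↥K) x = 1 := (QuotientGroup.eq_one_iff x).mpr h
        rw [h2]
        show ((e3 1 : ↥(alt S)) : Perm α) = 1
        rw [map_one]; rfl)
  exact ⟨M⟩

/-- the labelling by `Fin 5` of `K`, `K / O(K) ≅ Alt(5)` -/
theorem nonempty_mod [Finite G] {K : Subgroup G} (h : AltType K 5) :
    Nonempty (Mod K (Finset.univ : Finset (Fin 5))) := nonempty_mod_of_card (by simp) h

end Cfsg.Agent.UGT.A7.Dg
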